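import Cfsg.Agent.FiPres.Aut

/-!
Eight points in the pattern of the diagram without the seventh letter are completed by a ninth point, and nine
points in the pattern are the image of the letters under an automorphism.
-/

set_option autoImplicit false
set_option Elab.async false
set_option linter.style.haveILetI false

namespace Cfsg.Lib.FiTen

open Cfsg.Lib.FiPres Cfsg.Lib.CosetCert Cfsg.Lib.PermCert

/-- Eight points in the pattern, the seventh disregarded. -/
def GoodE (t : Fin 9 → Fin 3510) : Prop :=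
  ∀ j k : Fin 9, j < k → j ≠ 6 → k ≠ 6 → t j ≠ t k ∧ (tr (t j) • t k ≠ t k ↔ adjB j.val k.val = true)

theorem GoodE.smul {t : Fin 9 → Fin 3510} (h : GoodE t) (g : Cfsg.Spor.Fi22) : GoodE fun k => g • t k := by
  intro j k hjk hj hk
  obtain ⟨h1, h2⟩ := h j k hjk hj hk
  refine ⟨fun e => h1 (smul_left_cancel g e), ?_⟩
  show tr (g • t j) • g • t k ≠ g • t k ↔ _
  rw [tr_smul, ← mul_smul, inv_mul_cancel_right, mul_smul, ne_eq, smul_left_cancel_iff]
  exact h2

theorem ptL_val (k : Fin 9) : (ptL k).val = letterPts.getD k.val 0 := by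
  have h := List.all_eq_true.1 letters_ok k.val (List.mem_range.2 k.isLt)
  simp only [Bool.and_eq_true, decide_eq_true_eq] at h
  exact Nat.mod_eq_of_lt h.1.1.2

theorem candB_of_good {t : Fin 9 → Fin 3510} (h : GoodE t) (k : Fin 9) (hk : k ≠ 6) {m : ℕ} (hm : m ≤ k.val)
    (hm4 : m ≤ 4) (hp : ∀ j : Fin 9, j.val < m → t j = ptL j) : candB k.val m (t k).val = true := by
  rw [candB, List.all_eq_true]
  intro j hj
  rw [List.mem_range] at hj
  have hj9 : j < 9 := by omega
  obtain ⟨h1, h2⟩ := h ⟨j, hj9⟩ k (by rw [Fin.lt_def]; show j < k.val; omega)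
    (fun e => by have : j = 6 := congrArg Fin.val e; omega) hk
  rw [hp ⟨j, hj9⟩ hj] at h1 h2
  rw [(letter_facts ⟨j, hj9⟩).2.1, ne_eq, Fin.ext_iff] at h2
  haveI := transitive
  rw [tabled.im_smul smul_eq (show j < 10 by omega)] at h2
  rw [Bool.and_eq_true, bne_iff_ne, beq_iff_eq]
  refine ⟨fun e => h1 (Fin.ext ?_), ?_⟩
  · rw [ptL_val]; exact e.symm
  · rw [Bool.eq_iff_iff, bne_iff_ne]
    exact h2

theorem move_oneE {t : Fin 9 → Fin 3510} (h : GoodE t) (m : Fin 9) (hm : m.val < 4)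
    (hp : ∀ j : Fin 9, j.val < m.val → t j = ptL j) :
    ∃ g : Cfsg.Spor.Fi22, (∀ j : Fin 9, j.val < m.val → g • t j = ptL j) ∧ g • t m = ptL m := by
  haveI := transitive
  have hs := List.all_eq_true.1 stages_ok m.val (List.mem_range.2 hm)
  simp only [Bool.and_eq_true, List.all_eq_true, List.mem_range, decide_eq_true_eq, beq_iff_eq, Bool.or_eq_true,
    Bool.not_eq_true', Lev.ok] at hs
  obtain ⟨⟨⟨⟨hb, hscan⟩, hbase⟩, hgen⟩, hcov⟩ := hs
  set L := levT m.val
  let H : Subgroup Cfsg.Spor.Fi22 := Subgroup.closure {x | ∃ w ∈ L.gens, wval im10 w = x}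
  have hfix : ∀ g ∈ H, ∀ j : Fin 9, j.val < m.val → g • ptL j = ptL j := fun g hg j hj => by
    induction hg using Subgroup.closure_induction with
    | mem x hx =>
      obtain ⟨w, hw, rfl⟩ := hx
      have e := evalW_apply im10 psi sigTabs tabled.act w (fun l hl => (hgen w hw).1 l hl) (ptL j)
      rw [ptL_val, (hgen w hw).2 j.val hj, ← ptL_val, ← map_inv, ← smul_eq] at e
      exact (inv_smul_eq_iff.1 (Fin.ext e)).symm
    | one => rw [one_smul]
    | mul a b _ _ ha hb' => rw [mul_smul, hb', ha]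
    | inv a _ ha => rw [inv_smul_eq_iff, ha]
  have hz := hcov (t m).val (t m).isLt
  rw [candB_of_good h m (fun e => by rw [e] at hm; exact absurd hm (by decide)) le_rfl (by omega) hp] at hz
  obtain ⟨g, hg, e⟩ := tabled.reach smul_eq (H := H) (p := (⟨L.b, hb⟩ : Fin 3510)) (fun w hw => (hgen w hw).1)
    (fun w hw => Subgroup.subset_closure ⟨w, hw, rfl⟩) L.orb (1 <<< L.b) hscan
    (fun i hi => ⟨1, H.one_mem, by
      rw [Nat.one_shiftLeft, Nat.testBit_two_pow, decide_eq_true_eq] at hi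
      rw [one_smul]
      exact hi⟩) (t m).val (hz.resolve_left (by decide))
  refine ⟨g⁻¹, fun j hj => ?_, ?_⟩
  · rw [inv_smul_eq_iff, hfix g hg j hj]
    exact hp j hj
  · rw [inv_smul_eq_iff, ← (Fin.ext e : g • (⟨L.b, hb⟩ : Fin 3510) = t m)]
    congr 1
    exact Fin.ext (by rw [ptL_val]; exact hbase)

theorem normal_prefixE {t : Fin 9 → Fin 3510} (h : GoodE t) :
    ∀ m, m ≤ 4 → ∃ g : Cfsg.Spor.Fi22, ∀ j : Fin 9, j.val < m → g • t j = ptL j
  | 0, _ => ⟨1, fun j hj => absurd hj (Nat.not_lt_zero _)⟩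
  | m + 1, hm => by
    obtain ⟨g, hg⟩ := normal_prefixE h m (by omega)
    obtain ⟨k, hk1, hk2⟩ := move_oneE (h.smul g) ⟨m, by omega⟩ (by show m < 4; omega) hg
    refine ⟨k * g, fun j hj => ?_⟩
    rw [mul_smul]
    rcases Nat.lt_succ_iff_lt_or_eq.1 hj with h' | h'
    · exact hk1 j h'
    · rw [show j = ⟨m, by omega⟩ from Fin.ext h']
      exact hk2

/-- The completions of the first four letters by four points. -/
def tailsE : List (List ℕ) :=
  (candL 4).flatMap fun e => ((candL 5).filter fun f => pairB 4 5 e f).flatMap fun f =>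
    ((candL 7).filter fun h => pairB 4 7 e h && pairB 5 7 f h).flatMap fun h =>
      ((candL 8).filter fun i => pairB 4 8 e i && pairB 5 8 f i && pairB 7 8 h i).map fun i => [e, f, h, i]

/-- A ninth point fits four points. -/
def hasSix (e f h i : ℕ) : Bool :=
  (candL 6).any fun g => pairB 4 6 e g && pairB 5 6 f g && pairB 6 7 g h && pairB 6 8 g i

theorem tailsE_ok : (tailsE.all fun t => hasSix (t.getD 0 0) (t.getD 1 0) (t.getD 2 0) (t.getD 3 0) ||
    hasSix (t.getD 2 0) (t.getD 3 0) (t.getD 0 0) (t.getD 1 0)) = true ∧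
    ((candL 6).all fun g => decide (g < 3510) && candB 6 4 g) = true := by decide +kernel

theorem pairB_iff {y z : Fin 3510} (hy : knownPt y.val = true) {j k : ℕ} :
    pairB j k y.val z.val = true ↔ y ≠ z ∧ (tr y • z ≠ z ↔ adjB j k = true) := by
  have e : (tr y • z ≠ z) ↔ (evalW sigTabs (conjW y.val) z.val != z.val) = true := by
    rw [bne_iff_ne, ne_eq, Fin.ext_iff, (tr_known hy).2 z]
  rw [pairB, Bool.and_eq_true, bne_iff_ne, beq_iff_eq, e, ← Bool.eq_iff_iff]
  exact and_congr_left' (not_congr Fin.val_inj)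

theorem known_cand {k z : ℕ} (hk : 4 ≤ k) (hk8 : k < 8) (hz : z ∈ candL k) : knownPt z = true := by
  have hk' := tails_ok
  simp only [Bool.and_eq_true, List.all_eq_true, List.mem_range] at hk'
  refine hk'.2 (k - 4) (by omega) _ ?_
  rwa [show k - 4 + 4 = k by omega]

/-- The exchange of the two short arms. -/
def swE (k : Fin 9) : Fin 9 := ![0, 1, 2, 3, 7, 8, 6, 4, 5] k

theorem swE_facts : ∀ j k : Fin 9, (j ≠ 6 → swE j ≠ 6) ∧ (j.val < 4 → swE j = j) ∧
    (j ≠ k → swE j ≠ swE k) ∧ (j ≠ 6 → k ≠ 6 → adjB (swE j).val (swE k).val = adjB j.val k.val) ∧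
    adjB j.val k.val = adjB k.val j.val := by decide +kernel

theorem rel_symm (y z : Fin 3510) : (tr y • z ≠ z) ↔ (tr z • y ≠ y) := by
  rw [ne_eq, ne_eq, tr_fix, tr_fix]
  exact not_congr ⟨fun h => h.symm, fun h => h.symm⟩

theorem GoodE.swap {t : Fin 9 → Fin 3510} (h : GoodE t) : GoodE fun k => t (swE k) := by
  intro j k hjk hj hk
  obtain ⟨hj', -, hne, hadj, -⟩ := swE_facts j k
  have hk' := (swE_facts k k).1 hk
  rcases lt_or_gt_of_ne (hne hjk.ne) with e | e
  · obtain ⟨h1, h2⟩ := h _ _ e (hj' hj) hk'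
    exact ⟨h1, by rw [← hadj hj hk]; exact h2⟩
  · obtain ⟨h1, h2⟩ := h _ _ e hk' (hj' hj)
    refine ⟨h1.symm, ?_⟩
    rw [rel_symm, ← hadj hj hk, (swE_facts (swE j) (swE k)).2.2.2.2]
    exact h2

theorem complete_prefix {t : Fin 9 → Fin 3510} (h : GoodE t) (hp : ∀ j : Fin 9, j.val < 4 → t j = ptL j)
    (hs : hasSix (t 4).val (t 5).val (t 7).val (t 8).val = true) :
    ∃ u, GoodT u ∧ ∀ k, k ≠ 6 → u k = t k := by
  rw [hasSix, List.any_eq_true] at hs
  obtain ⟨g, hg, hs⟩ := hs
  have hg' := List.all_eq_true.1 tailsE_ok.2 g hg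
  simp only [Bool.and_eq_true, decide_eq_true_eq] at hg' hs
  set z : Fin 3510 := ⟨g, hg'.1⟩
  have hmem : ∀ k : Fin 9, 4 ≤ k.val → k ≠ 6 → (t k).val ∈ candL k.val := fun k hk hk6 => by
    have h1 := List.all_eq_true.1 (List.all_eq_true.1 cand_covers (k.val - 4)
      (List.mem_range.2 (by have := k.isLt; omega))) (t k).val (List.mem_range.2 (t k).isLt)
    rw [show k.val - 4 + 4 = k.val by omega, candB_of_good h k hk6 hk le_rfl hp] at h1
    simpa using h1
  have hz : knownPt z.val = true := known_cand (k := 6) (by norm_num) (by norm_num) hg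
  have q4 := (pairB_iff (z := z) (known_cand (by decide) (by decide) (hmem 4 (by decide) (by decide)))).1 hs.1.1.1
  have q5 := (pairB_iff (z := z) (known_cand (by decide) (by decide) (hmem 5 (by decide) (by decide)))).1 hs.1.1.2
  have q7 := (pairB_iff (z := t 7) hz).1 hs.1.2
  have q8 := (pairB_iff (z := t 8) hz).1 hs.2
  have low : ∀ j : Fin 9, j.val < 4 → t j ≠ z ∧ (tr (t j) • z ≠ z ↔ adjB j.val 6 = true) := fun j hj => by
    have h1 := List.all_eq_true.1 hg'.2 j.val (List.mem_range.2 hj)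
    rw [Bool.and_eq_true, bne_iff_ne, beq_iff_eq, Bool.eq_iff_iff, bne_iff_ne] at h1
    rw [hp j hj, (letter_facts j).2.1]
    refine ⟨fun e => h1.1 ?_, ?_⟩
    · rw [← ptL_val, e]
    · haveI := transitive
      rw [ne_eq, Fin.ext_iff, tabled.im_smul smul_eq (show j.val < 10 by omega)]
      exact h1.2
  refine ⟨Function.update t 6 z, ?_, fun k hk => Function.update_of_ne hk _ _⟩
  intro j k hjk
  by_cases hj : j = 6
  · subst hj
    rw [Function.update_self, Function.update_of_ne hjk.ne']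
    rcases (show k = 7 ∨ k = 8 from (show ∀ k : Fin 9, (6 : Fin 9) < k → k = 7 ∨ k = 8 by decide) k hjk) with rfl | rfl
    exacts [q7, q8]
  rw [Function.update_of_ne hj]
  by_cases hk : k = 6
  · subst hk
    rw [Function.update_self]
    rcases (show ∀ j : Fin 9, j < 6 → j.val < 4 ∨ j = 4 ∨ j = 5 by decide) j hjk with e | rfl | rfl
    exacts [low j e, q4, q5]
  rw [Function.update_of_ne hk]
  exact h j k hjk hj hk

theorem complete {t : Fin 9 → Fin 3510} (h : GoodE t) :
    ∃ u, GoodT u ∧ ∀ k, k ≠ 6 → ∃ j, j ≠ 6 ∧ u k = t j := by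
  obtain ⟨g, hg⟩ := normal_prefixE h 4 le_rfl
  set s : Fin 9 → Fin 3510 := fun k => g • t k with hs
  have hE : GoodE s := h.smul g
  have hp : ∀ j : Fin 9, j.val < 4 → s j = ptL j := hg
  have hmem : ∀ k : Fin 9, 4 ≤ k.val → k ≠ 6 → (s k).val ∈ candL k.val := fun k hk hk6 => by
    have h1 := List.all_eq_true.1 (List.all_eq_true.1 cand_covers (k.val - 4)
      (List.mem_range.2 (by have := k.isLt; omega))) (s k).val (List.mem_range.2 (s k).isLt)
    rw [show k.val - 4 + 4 = k.val by omega, candB_of_good hE k hk6 hk le_rfl hp] at h1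
    simpa using h1
  have hpair : ∀ j k : Fin 9, 4 ≤ j.val → j < k → j ≠ 6 → k ≠ 6 → pairB j.val k.val (s j).val (s k).val = true :=
    fun j k hj hjk hj6 hk6 => (pairB_iff (known_cand hj (by rw [Fin.lt_def] at hjk; have := k.isLt; omega)
      (hmem j hj hj6))).2 (hE j k hjk hj6 hk6)
  have ht : [(s 4).val, (s 5).val, (s 7).val, (s 8).val] ∈ tailsE := by
    simp only [tailsE, List.mem_flatMap, List.mem_filter, List.mem_map, Bool.and_eq_true]
    exact ⟨_, hmem 4 (by decide) (by decide), _,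
      ⟨hmem 5 (by decide) (by decide), hpair 4 5 (by decide) (by decide) (by decide) (by decide)⟩, _,
      ⟨hmem 7 (by decide) (by decide), hpair 4 7 (by decide) (by decide) (by decide) (by decide),
        hpair 5 7 (by decide) (by decide) (by decide) (by decide)⟩, _,
      ⟨hmem 8 (by decide) (by decide), ⟨hpair 4 8 (by decide) (by decide) (by decide) (by decide),
        hpair 5 8 (by decide) (by decide) (by decide) (by decide)⟩,
        hpair 7 8 (by decide) (by decide) (by decide) (by decide)⟩, rfl⟩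
  have hor := List.all_eq_true.1 tailsE_ok.1 _ ht
  simp only [Bool.or_eq_true, List.getD_cons_zero, List.getD_cons_succ] at hor
  have back : ∀ u, GoodT u → (∀ k, k ≠ 6 → ∃ j, j ≠ 6 ∧ u k = s j) →
      ∃ u, GoodT u ∧ ∀ k, k ≠ 6 → ∃ j, j ≠ 6 ∧ u k = t j := fun u hu hk =>
    ⟨fun k => g⁻¹ • u k, hu.smul _, fun k hk6 => by
      obtain ⟨j, hj, e⟩ := hk k hk6
      exact ⟨j, hj, by show g⁻¹ • u k = _; rw [e, hs, inv_smul_smul]⟩⟩
  rcases hor with e | e
  · obtain ⟨u, hu, hk⟩ := complete_prefix hE hp e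
    exact back u hu fun k hk6 => ⟨k, hk6, hk k hk6⟩
  · obtain ⟨u, hu, hk⟩ := complete_prefix hE.swap (fun j hj => by
      show s (swE j) = _
      rw [(swE_facts j j).2.1 hj]
      exact hp j hj) e
    exact back u hu fun k hk6 => ⟨swE k, (swE_facts k k).1 hk6, hk k hk6⟩

theorem im_ne_commute : ¬ Commute (im10 0) (im10 1) := by
  have h := (letter_facts 1).2.2 0 (by decide)
  have h2 := h.2.2 (by decide)
  rw [ne_eq, tr_fix, (letter_facts 0).2.1, (letter_facts 1).2.1] at h2
  exact h2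

/-- Nine points in the pattern are the image of the letters. -/
theorem exists_aut {u : Fin 9 → Fin 3510} (hu : GoodT u) :
    ∃ φ : MulAut Cfsg.Spor.Fi22, ∀ k : Fin 9, tr (u k) = φ (im10 k.val) := by
  haveI := FiPres.finite_fi
  haveI := FiPres.simple_fi
  haveI : Finite (MulAut Cfsg.Spor.Fi22) := Finite.of_injective _ DFunLike.coe_injective
  have hex : ∀ (φ : MulAut Cfsg.Spor.Fi22) (k : Fin 9), ∃ y, tr y = φ (im10 k.val) := fun φ k => by
    obtain ⟨g, hg⟩ := mem_transp.1 (im10_transp k)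
    obtain ⟨h, hh⟩ := mem_transp.1 (aut_transp φ)
    refine exists_point (mem_transp.2 ⟨φ g * h, ?_⟩)
    rw [← hg, map_mul, map_mul, map_inv, ← hh]
    group
  choose Φ hΦ using hex
  have hgood : ∀ φ, GoodT (Φ φ) := by
    intro φ j k hjk
    obtain ⟨h1, h2⟩ := (letter_facts k).2.2 j hjk.ne
    refine ⟨fun e => h1 (tr_injective ?_), ?_⟩
    · have := congrArg tr e
      rw [hΦ, hΦ] at this
      rw [(letter_facts j).2.1, (letter_facts k).2.1]
      exact φ.injective this
    · refine Iff.trans (not_congr ?_) h2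
      rw [tr_fix, tr_fix, hΦ, hΦ, (letter_facts j).2.1, (letter_facts k).2.1]
      exact ⟨fun h => φ.injective (by rw [map_mul, map_mul]; exact h), fun h => h.map φ⟩
  have hinj : Function.Injective fun φ => (⟨Φ φ, hgood φ⟩ : {t : Fin 9 → Fin 3510 // GoodT t}) := by
    intro φ ψ h
    have e : ∀ k : Fin 9, φ (im k.val) = ψ (im k.val) := fun k => by
      have hk : Φ φ k = Φ ψ k := congrFun (congrArg Subtype.val h) k
      rw [← im10_low k.isLt, ← hΦ φ k, ← hΦ ψ k, hk]
    have : φ.toMonoidHom = ψ.toMonoidHom := MonoidHom.eq_of_eqOn_dense closure_im (by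
      rintro _ ⟨l, hl, rfl⟩
      exact e ⟨l, hl⟩)
    exact MulEquiv.ext fun x => DFunLike.congr_fun this x
  have hc : Subgroup.center Cfsg.Spor.Fi22 = ⊥ := by
    rcases Subgroup.Normal.eq_bot_or_eq_top (inferInstance : (Subgroup.center Cfsg.Spor.Fi22).Normal) with e | e
    · exact e
    · exact absurd (Subgroup.mem_center_iff.1 (show im10 1 ∈ Subgroup.center _ from e ▸ Subgroup.mem_top _) (im10 0))
        im_ne_commute
  have hconj : Function.Injective (MulAut.conj : Cfsg.Spor.Fi22 →* MulAut Cfsg.Spor.Fi22) := by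
    refine (injective_iff_map_eq_one _).2 fun g hg => ?_
    refine Subgroup.mem_bot.1 (hc ▸ Subgroup.mem_center_iff.2 fun y => ?_)
    have := DFunLike.congr_fun hg y
    rw [MulAut.conj_apply, MulAut.one_apply, mul_inv_eq_iff_eq_mul] at this
    exact this.symm
  have hcard : Nat.card (MulAut Cfsg.Spor.Fi22) = 2 * 64561751654400 := by
    rw [Subgroup.card_eq_card_quotient_mul_card_subgroup (Cfsg.Inn Cfsg.Spor.Fi22)]
    congr 1
    · exact card_out
    · rw [← factG.1]
      exact (Nat.card_congr (MonoidHom.ofInjective hconj).toEquiv).symm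
  have hbij : Function.Bijective fun φ => (⟨Φ φ, hgood φ⟩ : {t : Fin 9 → Fin 3510 // GoodT t}) :=
    hinj.bijective_of_nat_card_le (hcard ▸ card_goodT)
  obtain ⟨φ, hφ⟩ := hbij.2 ⟨u, hu⟩
  have e : ∀ k, Φ φ k = u k := congrFun (congrArg Subtype.val hφ)
  exact ⟨φ, fun k => by rw [← e k]; exact hΦ φ k⟩

end Cfsg.Lib.FiTen
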