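import Cfsg.Agent.FiTen.Orth
import Cfsg.Agent.FiTen.Complete
import Cfsg.Agent.ThreeTransposition.Y332.Iso
import Cfsg.Agent.ThreeTransposition.PairNormaliser.TypeM23
import Cfsg.Agent.FiTwenty.Simple

/-!
A group of type M(23) is the presented Fischer group on ten letters: the eight letters found among the members
commuting with a noncommuting pair are completed inside the neighbours of one of them, and the other is the tenth.
-/

set_option autoImplicit false
set_option linter.unusedSectionVars false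
set_option linter.style.haveILetI false

namespace Cfsg.Lib.FiTen

open Cfsg.Lib.FiPres Cfsg.Lib.CosetCert Cfsg.Lib.PermCert

/-- Whether two letters are different permutations and whether they commute. -/
def omCheck (j k : ℕ) : Bool :=
  !isId (3 ^ 7) [orthTabs.getD j (0, 0), orthTabs.getD k (0, 0)] &&
    (isId (3 ^ 7) [orthTabs.getD j (0, 0), orthTabs.getD k (0, 0), orthTabs.getD j (0, 0), orthTabs.getD k (0, 0)] ==
      !adjB j k)

theorem om_checks : ∀ j k : Fin 9, 1 ≤ j.val → 1 ≤ k.val → j ≠ k → omCheck j.val k.val = true := by decide +kernel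

theorem om_sq : (List.range 9).all (fun j => isId (3 ^ 7) [orthTabs.getD j (0, 0), orthTabs.getD j (0, 0)]) = true := by
  decide +kernel

theorem isId_iff {w : List PP} (hv : ∀ g ∈ w, valid (3 ^ 7) g = true) :
    isId (3 ^ 7) w = true ↔ wperm (3 ^ 7) w = 1 := by
  refine ⟨isId_sound hv, fun h => List.all_eq_true.2 fun x hx => ?_⟩
  have := congrArg (fun p : Equiv.Perm (Fin (3 ^ 7)) => (p ⟨x, List.mem_range.1 hx⟩ : ℕ)) h
  simp only [wperm_apply hv, Equiv.Perm.coe_one, id_eq] at this
  simpa using this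

theorem omL_sq (j : Fin 9) : omL j.val * omL j.val = 1 := orthPerm_injective (by
  have h := List.all_eq_true.1 om_sq j.val (List.mem_range.2 j.isLt)
  rw [isId_iff (fun g hg => by simp at hg; subst hg; exact orth_valid j)] at h
  rw [map_mul, map_one, orthPerm_omL, ← h]
  simp [wperm])

theorem omL_rel8 (j k : Fin 9) (hj : 1 ≤ j.val) (hk : 1 ≤ k.val) (hjk : j ≠ k) :
    omL j.val ≠ omL k.val ∧ (¬ Commute (omL j.val) (omL k.val) ↔ adjB j.val k.val = true) := by
  have h := om_checks j k hj hk hjk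
  simp only [omCheck, Bool.and_eq_true, Bool.not_eq_true', beq_iff_eq] at h
  have hv : ∀ g ∈ ([orthTabs.getD j.val (0, 0), orthTabs.getD k.val (0, 0)] : List PP), valid (3 ^ 7) g = true := by
    intro g hg
    simp only [List.mem_cons, List.not_mem_nil, or_false] at hg
    rcases hg with rfl | rfl
    exacts [orth_valid j, orth_valid k]
  have hv4 : ∀ g ∈ ([orthTabs.getD j.val (0, 0), orthTabs.getD k.val (0, 0), orthTabs.getD j.val (0, 0),
      orthTabs.getD k.val (0, 0)] : List PP), valid (3 ^ 7) g = true := fun g hg => hv g (by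
    simp only [List.mem_cons, List.not_mem_nil, or_false] at hg ⊢
    rcases hg with e | e | e | e
    exacts [Or.inl e, Or.inr e, Or.inl e, Or.inr e])
  constructor
  · intro e
    have : isId (3 ^ 7) [orthTabs.getD j.val (0, 0), orthTabs.getD k.val (0, 0)] = true := by
      rw [isId_iff hv]
      simp only [wperm, List.map_cons, List.map_nil, List.prod_cons, List.prod_nil, mul_one]
      rw [← orthPerm_omL j, ← orthPerm_omL k, ← map_mul, ← e, omL_sq, map_one]
    rw [h.1] at this
    exact Bool.false_ne_true this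
  · have e4 : Commute (omL j.val) (omL k.val) ↔
        isId (3 ^ 7) [orthTabs.getD j.val (0, 0), orthTabs.getD k.val (0, 0), orthTabs.getD j.val (0, 0),
          orthTabs.getD k.val (0, 0)] = true := by
      rw [isId_iff hv4]
      simp only [wperm, List.map_cons, List.map_nil, List.prod_cons, List.prod_nil, mul_one]
      rw [← orthPerm_omL j, ← orthPerm_omL k, ← map_mul, ← map_mul, ← map_mul]
      rw [← map_one orthPerm, orthPerm_injective.eq_iff]
      have ij : (omL j.val)⁻¹ = omL j.val := inv_eq_of_mul_eq_one_left (omL_sq j)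
      have ik : (omL k.val)⁻¹ = omL k.val := inv_eq_of_mul_eq_one_left (omL_sq k)
      rw [← mul_assoc, mul_eq_one_iff_eq_inv, mul_inv_rev, ij, ik]
      exact Iff.rfl
    rw [e4, h.2]
    cases adjB j.val k.val <;> simp

/-- The pattern of the ten letters. -/
def adjTen (x y : ℕ) : Bool := adjB x y || [(6, 9)].contains (min x y, max x y)

theorem label_ten : ∀ x y : Fin 10, Cfsg.Spor.coxLabel Cfsg.Spor.Fi23.edges (FiTwenty.genOf x.val) (FiTwenty.genOf y.val) =
    if x = y then 1 else if adjTen x.val y.val then 3 else 2 := by decide +kernel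

theorem sym_eight : ∀ j k : Fin 9, j ≠ 6 → k ≠ 6 → symL j.val < 9 ∧ 1 ≤ symL j.val ∧
    (j ≠ k → symL j.val ≠ symL k.val) ∧ adjB (symL j.val) (symL k.val) = adjB j.val k.val := by decide +kernel

theorem adjB_ten : ∀ x y : Fin 9, adjTen x.val y.val = adjB x.val y.val ∧
    (adjTen x.val 9 = true ↔ x = 6) ∧ adjTen 9 x.val = adjTen x.val 9 ∧ adjB x.val y.val = adjB y.val x.val := by
  decide +kernel

open Subgroup Cfsg.Lib.ThreeTr
open scoped commutatorElement

theorem wval_map {H K : Type*} [Group H] [Group K] (f : H →* K) (im : ℕ → H) (w : List ℕ) :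
    f (wval im w) = wval (fun n => f (im n)) w := map_wval im f w

universe u

/-- A group of type M(23) is the presented Fischer group. -/
theorem exists_iso {G : Type u} [Group G] [Finite G] {D : Set G} (h : M23 D) (ht : Cfsg.IsOfTypeM23 G D) :
    ∃ e : Cfsg.Spor.Fi23 ≃* G, e '' conjugatesOf (FiTwenty.im 0) = D := by
  classical
  obtain ⟨x, hx, hQ⟩ := h.descended
  set K := closure (perp D x) with hK
  obtain ⟨ψ, hψ⟩ : ∃ ψ : Cfsg.Spor.Fi22 ≃* (K ⧸ center K), ψ '' FiPres.transp = descSet D x := Y332.exists_iso hQ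
  have hcls := h.cls
  have hT := h.solid.full.tower.twin
  have hE := hcls.1
  -- a member not commuting with the first one
  obtain ⟨c, hc, hxc⟩ : ∃ c ∈ D, ¬ Commute x c := by
    by_contra hno
    push Not at hno
    have hsub : D ⊆ insert x (perp D x) := fun y hy => by
      by_cases e : y = x
      · exact Or.inl e
      · exact Or.inr ⟨hy, e, hno y hy⟩
    have h1 := (Set.ncard_le_ncard hsub (Set.toFinite _)).trans (Set.ncard_insert_le _ _)
    rw [h.solid.full.level.card, h.solid.full.level.deg x hx] at h1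
    omega
  -- eight members in the pattern commuting with both
  obtain ⟨hKeq, ⟨iso⟩⟩ := h.pair_structure ht hx hc hxc
  set S := perp D x ∩ perp D c with hSdef
  obtain ⟨θ⟩ : Nonempty (↥(closure S) ≃* Om7) := by
    rw [← Qf_coe] at iso
    exact ⟨iso.trans ((QuotientGroup.quotientMulEquivOfEq card_omega7.2).trans QuotientGroup.quotientBot)⟩
  have hfix : ∀ k ∈ closure S, Commute k x ∧ Commute k c := fun k hk => by
    have := mem_centralizer_iff.1 (closure_common_le hk)
    exact ⟨(this x (Or.inl rfl)).symm, (this c (Or.inr rfl)).symm⟩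
  have hSinv : ∀ k ∈ closure S, ∀ y ∈ S, k * y * k⁻¹ ∈ S := fun k hk y hy => by
    obtain ⟨hkx, hkc⟩ := hfix k hk
    have ex : k * x * k⁻¹ = x := by rw [hkx.eq, mul_inv_cancel_right]
    have ec : k * c * k⁻¹ = c := by rw [hkc.eq, mul_inv_cancel_right]
    rw [hSdef, ← ex, ← ec, ← conj_image_inter hcls k x c]
    exact ⟨y, hy, rfl⟩
  set E : Set Om7 := θ '' {y : ↥(closure S) | (y : G) ∈ S}
  have hmem := letters_mem E (by
    rintro g _ ⟨y, hy, rfl⟩
    obtain ⟨k, rfl⟩ := θ.surjective g
    exact ⟨k * y * k⁻¹, hSinv k.1 k.2 y.1 hy, by rw [map_mul, map_mul, map_inv]⟩) (by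
    rintro _ ⟨y, hy, rfl⟩
    have ho := hE.1 (y : G) hy.1.1
    constructor
    · rw [← map_mul, show y * y = 1 from Subtype.ext (sq_eq_one hE hy.1.1), map_one]
    · intro e
      rw [θ.map_eq_one_iff] at e
      rw [e, Subgroup.coe_one, orderOf_one] at ho
      omega) (by
    rw [Set.ncard_image_of_injective _ θ.injective,
      ← Set.ncard_image_of_injective _ (Subgroup.subtype_injective (closure S))]
    rw [show (closure S).subtype '' {y | (y : G) ∈ S} = S from Set.ext fun z => ⟨by
      rintro ⟨y, hy, rfl⟩; exact hy, fun hz => ⟨⟨z, Subgroup.subset_closure hz⟩, hz, rfl⟩⟩]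
    exact h.solid.full.level.nonadj x hx c hc hxc)
  have hb : ∀ k : Fin 9, k ≠ 6 → ∃ b : ↥(closure S), (b : G) ∈ S ∧ θ b = omL (symL k.val) := fun k hk => by
    obtain ⟨h9, h1, -⟩ := sym_eight k k hk hk
    exact hmem ⟨_, h9⟩ h1
  choose b hbS hbθ using hb
  have hbrel : ∀ (j k : Fin 9) (hj : j ≠ 6) (hk : k ≠ 6), j ≠ k → (b j hj : G) ≠ b k hk ∧
      (¬ Commute (b j hj : G) (b k hk : G) ↔ adjB j.val k.val = true) := by
    intro j k hj hk hne
    obtain ⟨h9, h1, hs, hadj⟩ := sym_eight j k hj hk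
    obtain ⟨h9', h1', -⟩ := sym_eight k k hk hk
    obtain ⟨r1, r2⟩ := omL_rel8 ⟨_, h9⟩ ⟨_, h9'⟩ h1 h1' fun e => hs hne (congrArg Fin.val e)
    refine ⟨fun e => r1 ?_, ?_⟩
    · show omL _ = omL _
      rw [← hbθ j hj, ← hbθ k hk, Subtype.ext e]
    · rw [← hadj, ← r2, ← hbθ j hj, ← hbθ k hk]
      refine not_congr ⟨fun e => (show Commute (b j hj) (b k hk) from Subtype.ext e.eq).map θ, fun e => ?_⟩
      have := e.map θ.symm
      simp only [MulEquiv.symm_apply_apply] at this
      exact this.map (closure S).subtype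
  -- their points
  let q : K →* K ⧸ center K := QuotientGroup.mk' (center K)
  have hpt : ∀ y : G, y ∈ perp D x → ∃ (z : Fin 3510) (y' : K), (y' : G) = y ∧ ψ (tr z) = q y' := fun y hy => by
    have : q ⟨y, Subgroup.subset_closure hy⟩ ∈ descSet D x := ⟨⟨y, Subgroup.subset_closure hy⟩, hy, rfl⟩
    rw [← hψ] at this
    obtain ⟨u, hu, e⟩ := this
    obtain ⟨z, rfl⟩ := exists_point hu
    exact ⟨z, _, rfl, e⟩
  have hlift : ∀ z : Fin 3510, ∃ y' : K, (y' : G) ∈ perp D x ∧ ψ (tr z) = q y' := fun z => by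
    have : ψ (tr z) ∈ descSet D x := hψ ▸ ⟨tr z, by
      haveI := transitive
      obtain ⟨g, rfl⟩ := MulAction.exists_smul_eq Cfsg.Spor.Fi22 p0 z
      exact mem_transp.2 ⟨g, (tr_orbit g).symm⟩, rfl⟩
    obtain ⟨y', hy', e⟩ := this
    exact ⟨y', hy', e.symm⟩
  choose mem hmemD hmemψ using hlift
  have hmemI : Function.Injective fun z => (mem z : G) := fun z z' e => by
    refine tr_injective (ψ.injective ?_)
    rw [hmemψ, hmemψ, Subtype.ext (show (mem z : G) = mem z' from e)]
  have hmemC : ∀ z z', (¬ Commute (mem z : G) (mem z' : G)) ↔ tr z • z' ≠ z' := fun z z' => by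
    rw [ne_eq, tr_fix, ← desc_commute_iff hcls hT hx (hmemD z) (hmemD z')]
    refine not_congr ⟨fun e => ?_, fun e => ?_⟩
    · have e' : Commute (ψ (tr z)) (ψ (tr z')) := by rw [hmemψ, hmemψ]; exact e
      simpa using e'.map ψ.symm
    · have e' := e.map ψ
      rw [hmemψ, hmemψ] at e'
      exact e'
  have hpt8 : ∀ k : Fin 9, ∃ z, ∀ hk : k ≠ 6, (mem z : G) = b k hk := fun k => by
    by_cases hk : k = 6
    · exact ⟨p0, fun h => absurd hk h⟩
    · obtain ⟨z, y', rfl', e⟩ := hpt (b k hk : G) (hbS k hk).1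
      refine ⟨z, fun _ => ?_⟩
      rw [← rfl']
      exact desc_mk_inj hcls hT hx (hmemD z) (rfl' ▸ (hbS k hk).1) ((hmemψ z).symm.trans e)
  choose t ht8 using hpt8
  have hgoodE : GoodE t := fun j k hjk hj hk => by
    obtain ⟨r1, r2⟩ := hbrel j k hj hk hjk.ne
    refine ⟨fun e => r1 ?_, ?_⟩
    · rw [← ht8 j hj, ← ht8 k hk, e]
    · rw [← hmemC, ht8 j hj, ht8 k hk]
      exact r2
  obtain ⟨u, hu, hu6⟩ := complete hgoodE
  obtain ⟨φ, hφ⟩ := exists_aut hu
  set v : ℕ → K := fun n => if hn : n < 9 then mem (u ⟨n, hn⟩) else 1 with hvdef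
  have hvD : ∀ n : Fin 9, ((v n.val : K) : G) ∈ perp D x := fun n => by
    simp only [hvdef, dif_pos n.isLt]
    exact hmemD _
  have hvrel : ∀ j k : Fin 9, j ≠ k → (¬ Commute (v j.val : G) (v k.val : G) ↔ adjB j.val k.val = true) := by
    intro j k hne
    simp only [hvdef, dif_pos j.isLt, dif_pos k.isLt, Fin.eta]
    rw [hmemC]
    rcases lt_or_gt_of_ne hne with e | e
    · exact (hu j k e).2
    · rw [rel_symm, (adjB_ten j k).2.2.2]
      exact (hu k j e).2
  have hvc : ∀ k : Fin 9, k ≠ 6 → Commute (v k.val : G) c := fun k hk => by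
    obtain ⟨j, hj, e⟩ := hu6 k hk
    simp only [hvdef, dif_pos k.isLt, Fin.eta, e, ht8 j hj]
    exact (hfix _ (b j hj).2).2
  have hvq : ∀ n, n < 9 → q (v n) = ψ (φ (im10 n)) := fun n hn => by
    simp only [hvdef, dif_pos hn]
    exact (hmemψ _).symm.trans (congrArg ψ (hφ ⟨n, hn⟩))
  have hZ := h.solid.center_closure_perp hx
  have hzx : ∀ z : K, z ∈ center K → (z : G) = 1 ∨ (z : G) = x := fun z hz => by
    rw [hZ, mem_subgroupOf, mem_zpowers_iff] at hz
    obtain ⟨n, hn⟩ := hz
    rw [← hn]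
    rcases Int.even_or_odd' n with ⟨m, rfl | rfl⟩
    · left; rw [_root_.zpow_mul, zpow_two, sq_eq_one hE hx, one_zpow]
    · right; rw [zpow_add, zpow_one, _root_.zpow_mul, zpow_two, sq_eq_one hE hx, one_zpow, one_mul]
  -- a relation of the smaller group avoiding the seventh letter holds
  have hkill : ∀ w : List ℕ, (∀ l ∈ w, l < 9) → 6 ∉ w → wval im w = 1 → wval v w = 1 := by
    intro w hw h6 hw1
    have hcen : wval v w ∈ center K := by
      refine (QuotientGroup.eq_one_iff _).1 ?_
      show q (wval v w) = 1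
      rw [map_wval v q]
      have e : (w.map fun l => q (v l)) = w.map fun l => ψ (φ (im10 l)) :=
        List.map_congr_left fun l hl => hvq l (hw l hl)
      rw [wval, e]
      refine (map_wval im10 (ψ.toMonoidHom.comp φ.toMonoidHom) w).symm.trans ?_
      rw [wval_low hw, hw1, map_one]
    have hcomm : Commute ((wval v w : K) : G) c := by
      rw [← Subgroup.coe_subtype, map_wval v K.subtype, wval]
      refine (Commute.list_prod_right _ _ ?_).symm
      intro y hy
      obtain ⟨l, hl, rfl⟩ := List.mem_map.1 hy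
      exact (hvc ⟨l, hw l hl⟩ fun e => h6 (by rwa [show l = 6 from congrArg Fin.val e] at hl)).symm
    rcases hzx _ hcen with e | e
    · exact Subtype.ext e
    · rw [e] at hcomm
      exact absurd hcomm hxc
  -- the seventh member does not commute with the tenth
  have hc6 : ¬ Commute (v 6 : G) c := by
    intro h6
    have hall : ∀ n : Fin 9, Commute (v n.val : G) c := fun n => by
      by_cases e : n = 6
      · subst e; exact h6
      · exact hvc n e
    set V : Subgroup K := closure {y | ∃ n : Fin 9, v n.val = y}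
    have himg : V.map q = ⊤ := by
      rw [MonoidHom.map_closure, eq_top_iff,
        ← Subgroup.map_top_of_surjective (ψ.toMonoidHom.comp φ.toMonoidHom) (ψ.surjective.comp φ.surjective)]
      rw [← closure_im, MonoidHom.map_closure]
      refine Subgroup.closure_mono ?_
      rintro _ ⟨_, ⟨l, hl, rfl⟩, rfl⟩
      exact ⟨v l, ⟨⟨l, hl⟩, rfl⟩, by rw [hvq l hl, im10_low hl]; rfl⟩
    have hVtop : V = ⊤ := by
      refine top_le_iff.1 ?_
      rw [← h.commutator_closure_perp hx, _root_.commutator_def, commutator_le]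
      intro a _ a' _
      have ha : ∀ a : K, ∃ y ∈ V, ∃ z ∈ center K, a = y * z := fun a => by
        obtain ⟨y, hy, e⟩ : q a ∈ V.map q := himg ▸ mem_top _
        refine ⟨y, hy, y⁻¹ * a, (QuotientGroup.eq_one_iff _).1 ?_, by group⟩
        show q (y⁻¹ * a) = 1
        rw [map_mul, map_inv, e, inv_mul_cancel]
      obtain ⟨y, hy, z, hz, rfl⟩ := ha a
      obtain ⟨y', hy', z', hz', rfl⟩ := ha a'
      have c1 : ∀ w : K, Commute z w := fun w => (mem_center_iff.1 hz w).symm
      have c2 : ∀ w : K, Commute z' w := fun w => (mem_center_iff.1 hz' w).symm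
      have : ⁅y * z, y' * z'⁆ = ⁅y, y'⁆ := by
        rw [commutatorElement_def, commutatorElement_def, mul_inv_rev, mul_inv_rev]
        calc y * z * (y' * z') * (z⁻¹ * y⁻¹) * (z'⁻¹ * y'⁻¹)
            = y * (z * (y' * z')) * z⁻¹ * y⁻¹ * z'⁻¹ * y'⁻¹ := by group
          _ = y * y' * z' * y⁻¹ * z'⁻¹ * y'⁻¹ := by rw [(c1 _).eq]; group
          _ = y * y' * (z' * y⁻¹) * z'⁻¹ * y'⁻¹ := by group
          _ = y * y' * y⁻¹ * y'⁻¹ := by rw [(c2 _).eq]; group
      rw [this, commutatorElement_def]
      exact mul_mem (mul_mem (mul_mem hy hy') (inv_mem hy)) (inv_mem hy')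
    have hKc : ∀ a : K, Commute (a : G) c := fun a => by
      have : a ∈ V := hVtop ▸ mem_top a
      induction this using closure_induction with
      | mem y hy => obtain ⟨n, rfl⟩ := hy; exact hall n
      | one => exact Commute.one_left c
      | mul a b _ _ ha hb => exact ha.mul_left hb
      | inv a _ ha => exact ha.inv_left
    have hsub : perp D x ⊆ S := fun y hy => ⟨hy, hy.1, fun e => hxc (e ▸ hy.2.2),
      (hKc ⟨y, Subgroup.subset_closure hy⟩).symm⟩
    have h1 := Set.ncard_le_ncard hsub (Set.toFinite _)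
    rw [h.solid.full.level.nonadj x hx c hc hxc, h.solid.full.level.deg x hx] at h1
    omega
  -- the ten letters
  set w10 : ℕ → G := fun n => if n = 9 then c else (v n : G) with hw10
  have hw9 : ∀ n, n < 9 → w10 n = (v n : G) := fun n hn => by
    simp only [hw10, if_neg (show n ≠ 9 by omega)]
  have hD10 : ∀ n : Fin 10, w10 n.val ∈ D := fun n => by
    rcases Nat.lt_or_ge n.val 9 with e | e
    · rw [hw9 _ e]; exact (hvD ⟨_, e⟩).1
    · simp only [hw10, if_pos (show n.val = 9 by omega)]; exact hc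
  have hrel10 : ∀ a a' : Fin 10, a ≠ a' → (¬ Commute (w10 a.val) (w10 a'.val) ↔ adjTen a.val a'.val = true) := by
    have h9 : ∀ a : Fin 9, (¬ Commute (v a.val : G) c ↔ adjTen a.val 9 = true) := fun a => by
      rw [(adjB_ten a a).2.1]
      by_cases e : a = 6
      · subst e; simpa using hc6
      · simp [e, hvc a e]
    intro a a' hne
    rcases Nat.lt_or_ge a.val 9 with e | e <;> rcases Nat.lt_or_ge a'.val 9 with e' | e'
    · rw [hw9 _ e, hw9 _ e', (adjB_ten ⟨_, e⟩ ⟨_, e'⟩).1]
      exact hvrel ⟨_, e⟩ ⟨_, e'⟩ fun k => hne (Fin.ext (Fin.mk.inj_iff.1 k))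
    · rw [hw9 _ e, show a'.val = 9 by omega, show w10 9 = c from rfl]
      exact h9 ⟨_, e⟩
    · rw [hw9 _ e', show a.val = 9 by omega, show w10 9 = c from rfl, (adjB_ten ⟨_, e'⟩ ⟨_, e'⟩).2.2.1, ← h9 ⟨_, e'⟩]
      exact not_congr ⟨fun k => k.symm, fun k => k.symm⟩
    · exact absurd (Fin.ext (by omega)) hne
  have hgood : FiTwenty.Good w10 := by
    intro w hw
    rcases List.mem_append.1 hw with hw | hw
    · obtain ⟨a, ha, hw⟩ := List.mem_flatMap.1 hw
      obtain ⟨a', ha', rfl⟩ := List.mem_map.1 hw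
      rw [List.mem_range] at ha ha'
      rw [FiTwenty.pairWord, FiTwenty.wval_rpt, FiTwenty.wval_cons, FiTwenty.wval_cons, FiTwenty.wval_nil, mul_one,
        label_ten ⟨a, ha⟩ ⟨a', ha'⟩]
      split_ifs with e1 e2
      · rw [pow_one, show a = a' from congrArg Fin.val e1, sq_eq_one hE (hD10 ⟨a', ha'⟩)]
      · exact cube_of_not_commute hE (hD10 ⟨a, ha⟩) (hD10 ⟨a', ha'⟩) ((hrel10 _ _ e1).2 e2)
      · exact (commute_iff_sq (sq_eq_one hE (hD10 ⟨a, ha⟩)) (sq_eq_one hE (hD10 ⟨a', ha'⟩))).1
          (not_not.1 fun k => e2 ((hrel10 _ _ e1).1 k))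
    · have hcase : ∀ w' : List ℕ, (∀ l ∈ w', l < 9) → 6 ∉ w' → wval im w' = 1 → wval w10 w' = 1 :=
        fun w' hl h6 h1 => by
          have := congrArg Subtype.val (hkill w' hl h6 h1)
          rw [← Subgroup.coe_subtype, map_wval v K.subtype, map_one] at this
          rw [← this, wval, wval]
          exact congrArg List.prod (List.map_congr_left fun l hl' => hw9 l (hl l hl'))
      have hg := FiPres.good_im
      simp only [FiTwenty.extraWords, List.mem_cons, List.not_mem_nil, or_false] at hw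
      rcases hw with rfl | rfl
      · exact hcase _ (by decide) (by decide) (hg _ (List.mem_append_right _ (by
          simp [FiPres.extraWords, FiTwenty.rpt, FiPres.rpt])))
      · exact hcase _ (by decide) (by decide) (hg _ (List.mem_append_right _ (by
          simp [FiPres.extraWords, FiTwenty.rpt, FiPres.rpt])))
  let Φ : Cfsg.Spor.Fi23 →* G := PresentedGroup.toGroup hgood.relators
  have ha : Φ (FiTwenty.im 0) = w10 0 := PresentedGroup.toGroup.of _
  have hinj : Function.Injective Φ := by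
    haveI := FiTwenty.simple_fi
    rcases (MonoidHom.normal_ker Φ).eq_bot_or_eq_top with e | e
    · exact Φ.ker_eq_bot_iff.1 e
    · exfalso
      have : FiTwenty.im 0 ∈ Φ.ker := e ▸ mem_top _
      rw [MonoidHom.mem_ker, ha] at this
      have h2 := hE.1 (w10 0) (hD10 ⟨0, by norm_num⟩)
      rw [this, orderOf_one] at h2
      omega
  haveI : Finite Cfsg.Spor.Fi23 := Finite.of_injective Φ hinj
  have hbij : Function.Bijective Φ := (Nat.bijective_iff_injective_and_card Φ).2 ⟨hinj, by
    rw [FiTwenty.isFi.2, h.card_group]⟩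
  refine ⟨MulEquiv.ofBijective Φ hbij, Set.ext fun y => ⟨?_, fun hy => ?_⟩⟩
  · rintro ⟨z, hz, rfl⟩
    obtain ⟨g, rfl⟩ := isConj_iff.1 hz
    show Φ _ ∈ D
    rw [map_mul, map_mul, ha, map_inv]
    exact conj_mem hcls _ (hD10 ⟨0, by norm_num⟩)
  · obtain ⟨k, rfl⟩ := exists_conj hcls (hD10 ⟨0, by norm_num⟩) hy
    obtain ⟨g, rfl⟩ := hbij.2 k
    exact ⟨g * FiTwenty.im 0 * g⁻¹, isConj_iff.2 ⟨g, rfl⟩, by
      show Φ _ = _
      rw [map_mul, map_mul, ha, map_inv]⟩

end Cfsg.Lib.FiTen
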