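import Cfsg.Agent.FiPres.OrthImage
import Cfsg.Agent.Classical.Misc.Spinor

/-!
An invariant set of 351 involutions of the simple orthogonal group in dimension seven over three elements
contains the images of the eight letters.
-/

set_option autoImplicit false
set_option Elab.async false
set_option linter.unusedSectionVars false
set_option linter.style.haveILetI false

namespace Cfsg.Lib.FiTen

open Cfsg.Lib.FiPres Cfsg.Lib.Classical Cfsg.Lib.CosetCert Cfsg.Lib.PermCert
open Matrix

/-- The orthogonal group. -/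
noncomputable abbrev Om7 := Cfsg.Omega (ZMod 3) (⇑Qf)

/-- The matrix of an element. -/
noncomputable abbrev mtx (g : Om7) : Matrix I7 I7 (ZMod 3) := Refl.mat Qf g.1

theorem mtx_mul_vec (a b : Om7) (v : I7 → ZMod 3) : mtx (a * b) *ᵥ v = mtx a *ᵥ (mtx b *ᵥ v) := by
  simp only [mtx, Refl.mat, Subgroup.coe_mul, Units.val_mul, Matrix.mulVec_mulVec]

theorem mtx_one_vec (v : I7 → ZMod 3) : mtx 1 *ᵥ v = v := by simp [mtx, Refl.mat]

theorem qf_mtx (g : Om7) (v : I7 → ZMod 3) : Qf (mtx g *ᵥ v) = Qf v := (Refl.mem_iff Qf).1 g.1.2 v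

theorem det_of_detHom {F : Type*} [Field F] {ι : Type} [Fintype ι] [DecidableEq ι] (Q : QuadraticForm F (ι → F))
    {g : Cfsg.isometryGroup F (⇑Q)} (h : Refl.detHom Q g = 1) : (Refl.mat Q g).det = 1 :=
  congrArg Units.val h

/-- A permutation with trivial seventh power fixes as many points as there are, modulo seven. -/
theorem fixed_mod_seven {α : Type*} [Finite α] (σ : Equiv.Perm α) (h : σ ^ 7 = 1) :
    {a : α | σ a = a}.ncard ≡ Nat.card α [MOD 7] := by
  classical
  haveI := Fintype.ofFinite α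
  haveI : Fact (Nat.Prime 7) := ⟨by norm_num⟩
  have := Equiv.Perm.card_compl_support_modEq (p := 7) (n := 1) (σ := σ) (by rwa [pow_one])
  rw [← Nat.card_eq_fintype_card] at this
  convert this using 1
  rw [← Set.ncard_coe_finset]
  congr 1
  ext a
  simp

/-- An element of order seven fixes every invariant subspace of dimension at most five. -/
theorem trivial_on {g : Om7} (hg : g ^ 7 = 1) (W : Submodule (ZMod 3) (I7 → ZMod 3))
    (hinv : ∀ v ∈ W, mtx g *ᵥ v ∈ W) (hd : Module.finrank (ZMod 3) W ≤ 5) : ∀ v ∈ W, mtx g *ᵥ v = v := by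
  have hpow : ∀ n : ℕ, ∀ v ∈ W, mtx (g ^ n) *ᵥ v ∈ W := fun n => by
    induction n with
    | zero => intro v hv; rwa [pow_zero, mtx_one_vec]
    | succ n ih =>
      intro v hv
      rw [pow_succ, mtx_mul_vec]
      exact ih _ (hinv v hv)
  let σ : Equiv.Perm W :=
    { toFun := fun v => ⟨mtx g *ᵥ v.1, hinv v.1 v.2⟩
      invFun := fun v => ⟨mtx (g ^ 6) *ᵥ v.1, hpow 6 v.1 v.2⟩
      left_inv := fun v => Subtype.ext (by
        show mtx (g ^ 6) *ᵥ (mtx g *ᵥ v.1) = v.1
        rw [← mtx_mul_vec, ← pow_succ, hg, mtx_one_vec])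
      right_inv := fun v => Subtype.ext (by
        show mtx g *ᵥ (mtx (g ^ 6) *ᵥ v.1) = v.1
        rw [← mtx_mul_vec, ← pow_succ', hg, mtx_one_vec]) }
  have hσn : ∀ (n : ℕ) (v : W), ((σ ^ n) v).1 = mtx (g ^ n) *ᵥ v.1 := fun n => by
    induction n with
    | zero => intro v; rw [pow_zero, pow_zero, mtx_one_vec]; rfl
    | succ n ih =>
      intro v
      rw [pow_succ, Equiv.Perm.mul_apply, ih, pow_succ, mtx_mul_vec]
      rfl
  have hσ : σ ^ 7 = 1 := Equiv.ext fun v => Subtype.ext (by rw [hσn, hg, mtx_one_vec]; rfl)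
  let F : Submodule (ZMod 3) W :=
    LinearMap.ker (((Matrix.mulVecLin (mtx g)).comp W.subtype) - W.subtype)
  have hF : ∀ v : W, v ∈ F ↔ mtx g *ᵥ v.1 = v.1 := fun v => by
    simp only [F, LinearMap.mem_ker, LinearMap.sub_apply, LinearMap.comp_apply, Matrix.mulVecLin_apply,
      Submodule.coe_subtype, sub_eq_zero]
  have hfix : {v : W | σ v = v}.ncard = Nat.card F := by
    rw [show {v : W | σ v = v} = (F : Set W) from Set.ext fun v => by
      rw [SetLike.mem_coe, hF]
      exact Subtype.ext_iff]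
    exact (Nat.card_coe_set_eq _).symm
  have hmod := fixed_mod_seven σ hσ
  rw [hfix, Module.natCard_eq_pow_finrank (K := ZMod 3) (V := F),
    Module.natCard_eq_pow_finrank (K := ZMod 3) (V := W), Nat.card_zmod] at hmod
  have hle := Submodule.finrank_le F
  have hpows : ∀ a b : Fin 6, 3 ^ a.val % 7 = 3 ^ b.val % 7 → a = b := by decide
  have he : Module.finrank (ZMod 3) F = Module.finrank (ZMod 3) W :=
    congrArg Fin.val (hpows ⟨Module.finrank (ZMod 3) F, by omega⟩ ⟨Module.finrank (ZMod 3) W, by omega⟩ hmod)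
  intro v hv
  have := Submodule.eq_top_of_finrank_eq he
  exact (hF ⟨v, hv⟩).1 (this ▸ Submodule.mem_top)

/-- The eigenspace of a sign. -/
noncomputable def eigen (e : Om7) (s : ZMod 3) : Submodule (ZMod 3) (I7 → ZMod 3) :=
  LinearMap.ker (Matrix.mulVecLin (mtx e) - s • LinearMap.id)

theorem mem_eigen {e : Om7} {s : ZMod 3} {v : I7 → ZMod 3} : v ∈ eigen e s ↔ mtx e *ᵥ v = s • v := by
  simp only [eigen, LinearMap.mem_ker, LinearMap.sub_apply, Matrix.mulVecLin_apply, LinearMap.smul_apply,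
    LinearMap.id_apply, sub_eq_zero]

theorem eigen_isCompl {e : Om7} (he : e * e = 1) : IsCompl (eigen e 1) (eigen e (-1)) := by
  have hee : ∀ v, mtx e *ᵥ (mtx e *ᵥ v) = v := fun v => by rw [← mtx_mul_vec, he, mtx_one_vec]
  refine ⟨Submodule.disjoint_def.2 fun v h1 h2 => ?_, ?_⟩
  · rw [mem_eigen, one_smul] at h1
    rw [mem_eigen, h1, neg_one_smul] at h2
    have : (2 : ZMod 3) • v = 0 := by rw [two_smul]; nth_rw 2 [h2]; exact add_neg_cancel v
    exact (smul_eq_zero.1 this).resolve_left FiPres.two_ne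
  · rw [codisjoint_iff, eq_top_iff]
    intro v _
    refine Submodule.mem_sup.2 ⟨(2 : ZMod 3) • (v + mtx e *ᵥ v), mem_eigen.2 ?_,
      (2 : ZMod 3) • (v - mtx e *ᵥ v), mem_eigen.2 ?_, ?_⟩
    · rw [Matrix.mulVec_smul, Matrix.mulVec_add, hee, one_smul, add_comm]
    · rw [Matrix.mulVec_smul, Matrix.mulVec_sub, hee, neg_one_smul, ← smul_neg, neg_sub]
    · rw [← smul_add, show v + mtx e *ᵥ v + (v - mtx e *ᵥ v) = (2 : ZMod 3) • v by rw [two_smul]; abel, smul_smul,
        show (2 : ZMod 3) * 2 = 1 by decide, one_smul]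

theorem finrank_I7 : Module.finrank (ZMod 3) (I7 → ZMod 3) = 7 := by
  rw [Module.finrank_fintype_fun_eq_card]
  rfl

/-- An involution centralising an element of order seven is minus a reflection in a vector of value two. -/
theorem involution_form {e g : Om7} (he : e * e = 1) (he1 : e ≠ 1) (hg : orderOf g = 7) (hc : Commute e g) :
    ∃ (v : I7 → ZMod 3) (hv : Qf v ≠ 0), Qf v = 2 ∧ e.1 = minusOne * Refl.refl Qf v hv := by
  set P := eigen e 1 with hP
  set M := eigen e (-1) with hM
  have hcompl := eigen_isCompl he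
  have hsum : Module.finrank (ZMod 3) P + Module.finrank (ZMod 3) M = 7 := by
    rw [Submodule.finrank_add_eq_of_isCompl hcompl, finrank_I7]
  have hinv : ∀ s, ∀ v ∈ eigen e s, mtx g *ᵥ v ∈ eigen e s := fun s v hv => by
    rw [mem_eigen, ← mtx_mul_vec, hc.eq, mtx_mul_vec, mem_eigen.1 hv, Matrix.mulVec_smul]
  have hdec : ∀ x, ∃ p ∈ P, ∃ m ∈ M, p + m = x := fun x =>
    Submodule.mem_sup.1 (by rw [hcompl.sup_eq_top]; exact Submodule.mem_top)
  have hg7 : g ^ 7 = 1 := hg ▸ pow_orderOf_eq_one g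
  have hbig : ¬ (Module.finrank (ZMod 3) P ≤ 5 ∧ Module.finrank (ZMod 3) M ≤ 5) := by
    rintro ⟨h1, h2⟩
    have : g = 1 := Subtype.ext (Refl.ext_mulVec Qf fun x => by
      obtain ⟨p, hp, m, hm, rfl⟩ := hdec x
      show mtx g *ᵥ _ = mtx 1 *ᵥ _
      rw [mtx_one_vec, Matrix.mulVec_add, trivial_on hg7 P (hinv 1) h1 p hp, trivial_on hg7 M (hinv _) h2 m hm])
    rw [this, orderOf_one] at hg
    norm_num at hg
  have horth : ∀ p ∈ P, ∀ m ∈ M, QuadraticMap.polar (⇑Qf) p m = 0 := fun p hp m hm => by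
    have h := Refl.polar_act Qf e.1 p m
    change QuadraticMap.polar (⇑Qf) (mtx e *ᵥ p) (mtx e *ᵥ m) = _ at h
    rw [mem_eigen.1 hp, mem_eigen.1 hm, one_smul, QuadraticMap.polar_smul_right, smul_eq_mul] at h
    have h2 : (2 : ZMod 3) * QuadraticMap.polar (⇑Qf) p m = 0 := by linear_combination (-1 : ZMod 3) * h
    exact (mul_eq_zero.1 h2).resolve_left FiPres.two_ne
  -- a line spans one of the eigenspaces
  have line : ∀ W W' : Submodule (ZMod 3) (I7 → ZMod 3), Module.finrank (ZMod 3) W = 1 →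
      (∀ x, ∃ p ∈ W, ∃ m ∈ W', p + m = x) → (∀ p ∈ W, ∀ m ∈ W', QuadraticMap.polar (⇑Qf) p m = 0) →
      ∃ v, ∃ _ : Qf v ≠ 0, v ∈ W ∧ ∀ p ∈ W, ∃ c : ZMod 3, p = c • v := by
    intro W W' hW hd ho
    obtain ⟨⟨v, hvW⟩, hv0, hspan⟩ := finrank_eq_one_iff'.1 hW
    refine ⟨v, fun h0 => hv0 (Subtype.ext (nondeg.1 v fun y => ?_)), hvW, fun p hp => ?_⟩
    · obtain ⟨p, hp, m, hm, rfl⟩ := hd y
      obtain ⟨c, hc⟩ := hspan ⟨p, hp⟩
      show QuadraticMap.polar (⇑Qf) v (p + m) = 0
      have hp' : c • v = p := congrArg Subtype.val hc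
      rw [QuadraticMap.polar_add_right, ho v hvW m hm, ← hp']
      simp [QuadraticMap.polar_smul_right, QuadraticMap.polar_self, h0]
    · obtain ⟨c, hc⟩ := hspan ⟨p, hp⟩
      exact ⟨c, (congrArg Subtype.val hc).symm⟩
  have hn : 2 ≤ Fintype.card I7 := by simp
  have hdet : Refl.detHom Qf e.1 = 1 := Refl.hom_eq_one_of_omega Qf _ e.2
  rcases Nat.lt_or_ge 5 (Module.finrank (ZMod 3) M) with h | h
  · -- the negative eigenspace is big
    rcases (show Module.finrank (ZMod 3) P = 0 ∨ Module.finrank (ZMod 3) P = 1 by omega) with h0 | h1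
    · exfalso
      have hP0 : P = ⊥ := Submodule.finrank_eq_zero.1 h0
      have hneg : Refl.mat Qf e.1 = -1 := Matrix.toLin'.injective (LinearMap.ext fun x => by
        obtain ⟨p, hp, m, hm, rfl⟩ := hdec x
        rw [hP0, Submodule.mem_bot] at hp
        rw [Matrix.toLin'_apply, Matrix.toLin'_apply, hp, zero_add, Matrix.neg_mulVec, Matrix.one_mulVec]
        show mtx e *ᵥ m = -m
        rw [mem_eigen.1 hm, neg_one_smul])
      have hd := det_of_detHom Qf hdet
      rw [hneg, Matrix.det_neg, Matrix.det_one, mul_one] at hd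
      simp only [Fintype.card_sum, Fintype.card_unit, Fintype.card_fin] at hd
      exact absurd hd (by decide)
    · obtain ⟨v, hv, hvP, hspan⟩ := line P M h1 hdec horth
      have heq : e.1 = minusOne * Refl.refl Qf v hv := Refl.ext_mulVec Qf fun x => by
        obtain ⟨p, hp, m, hm, rfl⟩ := hdec x
        obtain ⟨c, rfl⟩ := hspan p hp
        show mtx e *ᵥ _ = _
        rw [Refl.mat, Subgroup.coe_mul, Units.val_mul, Refl.coe_refl, mat_minusOne, ← Matrix.mulVec_mulVec,
          Matrix.neg_mulVec, Matrix.one_mulVec, Matrix.mulVec_add, Matrix.mulVec_add, Matrix.mulVec_smul,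
          Matrix.mulVec_smul, mem_eigen.1 hvP, mem_eigen.1 hm, Refl.self Qf v hv, Refl.fix Qf v m (horth v hvP m hm)]
        module
      refine ⟨v, hv, ?_, heq⟩
      by_contra hne
      obtain ⟨κ, hκ⟩ := Refl.exists_spin_scale Qf FiPres.two_ne nondeg hn
      have s1 : Refl.spin Qf e.1 = 1 := Refl.hom_eq_one_of_omega Qf _ e.2
      have s2 : Refl.spin Qf (isoL 1) = 1 := Refl.hom_eq_one_of_omega Qf _ (isoL_omega 1)
      rw [heq, map_mul] at s1
      rw [isoL, dif_pos ⟨by norm_num, le_rfl⟩, map_mul] at s2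
      have h12 := congrArg (fun u : ℤˣ => (u : ℤ)) (mul_left_cancel (s1.trans s2.symm))
      simp only [hκ] at h12
      have hq1 : Qf v = 1 := by
        have : ∀ a : ZMod 3, a ≠ 0 → a ≠ 2 → a = 1 := by decide
        exact this _ hv hne
      rw [hq1, Qf_coe, root_q ⟨1, by norm_num⟩ le_rfl] at h12
      rw [show quadraticChar (ZMod 3) 2 = -1 by decide +kernel, map_one, mul_one] at h12
      rcases Int.units_eq_one_or κ with e' | e' <;> simp [e'] at h12
  · have h5 : 5 < Module.finrank (ZMod 3) P := by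
      by_contra h'
      exact hbig ⟨by omega, h⟩
    rcases (show Module.finrank (ZMod 3) M = 0 ∨ Module.finrank (ZMod 3) M = 1 by omega) with h0 | h1
    · exfalso
      have hM0 : M = ⊥ := Submodule.finrank_eq_zero.1 h0
      refine he1 (Subtype.ext (Refl.ext_mulVec Qf fun x => ?_))
      obtain ⟨p, hp, m, hm, rfl⟩ := hdec x
      rw [hM0, Submodule.mem_bot] at hm
      show mtx e *ᵥ _ = mtx 1 *ᵥ _
      rw [hm, add_zero, mtx_one_vec, mem_eigen.1 hp, one_smul]
    · exfalso
      obtain ⟨v, hv, hvM, hspan⟩ := line M P h1 (fun x => by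
        obtain ⟨p, hp, m, hm, h⟩ := hdec x
        exact ⟨m, hm, p, hp, by rw [add_comm, h]⟩)
        (fun m hm p hp => by rw [QuadraticMap.polar_comm]; exact horth p hp m hm)
      have heq : e.1 = Refl.refl Qf v hv := Refl.ext_mulVec Qf fun x => by
        obtain ⟨p, hp, m, hm, rfl⟩ := hdec x
        obtain ⟨c, rfl⟩ := hspan m hm
        show mtx e *ᵥ _ = _
        rw [Refl.mat, Refl.coe_refl, Matrix.mulVec_add, Matrix.mulVec_add, Matrix.mulVec_smul, Matrix.mulVec_smul,
          mem_eigen.1 hvM, mem_eigen.1 hp, Refl.self Qf v hv,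
          Refl.fix Qf v p (by rw [QuadraticMap.polar_comm]; exact horth p hp v hvM)]
        module
      rw [heq, Refl.detHom_refl] at hdet
      exact absurd (congrArg Units.val hdet) (by decide)

/-- One round of closing a mask under the eight letters. -/
def stepM (m : ℕ) : ℕ :=
  (List.range (3 ^ 7)).foldl (fun a j => if m.testBit j then
    (List.range 9).foldl (fun b k => b ||| 1 <<< ap (orthTabs.getD k (0, 0)).1 j) a else a) m

/-- The number of the first root. -/
def startN : ℕ := ((List.range 7).map fun i => (rootL 1).getD i 0 % 3 * 3 ^ i).sum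

/-- The value of the form at a numbered vector. -/
def qN (j : ℕ) : ℕ :=
  ((j / 3 ^ 0 % 3) ^ 2 + (j / 3 ^ 1 % 3) * (j / 3 ^ 4 % 3) + (j / 3 ^ 2 % 3) * (j / 3 ^ 5 % 3) +
    (j / 3 ^ 3 % 3) * (j / 3 ^ 6 % 3)) % 3

theorem mask_cover : ((List.range (3 ^ 7)).all fun j => !(qN j == 2) || ((stepM^[24]) (1 <<< startN)).testBit j) = true := by
  decide +kernel

theorem qf_num (j : Fin (3 ^ 7)) : Qf (numV.symm j) = ((qN j.val : ℕ) : ZMod 3) := by
  rw [Qf_coe]
  simp only [Cfsg.quadFormOdd, Fin.sum_univ_three, qN, ZMod.natCast_mod, Nat.cast_add, Nat.cast_mul, Nat.cast_pow]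
  rw [show (Sum.inl () : I7) = coordI 0 from rfl, show (Sum.inr (Sum.inl 0) : I7) = coordI 1 from rfl,
    show (Sum.inr (Sum.inl 1) : I7) = coordI 2 from rfl, show (Sum.inr (Sum.inl 2) : I7) = coordI 3 from rfl,
    show (Sum.inr (Sum.inr 0) : I7) = coordI 4 from rfl, show (Sum.inr (Sum.inr 1) : I7) = coordI 5 from rfl,
    show (Sum.inr (Sum.inr 2) : I7) = coordI 6 from rfl]
  simp only [numV_symm, Fin.val_zero, Fin.val_one, Fin.val_two]
  push_cast
  simp [add_assoc]

/-- Every vector of value two is an image of the first root. -/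
theorem transitive_two {v : I7 → ZMod 3} (hv : Qf v = 2) : ∃ g : Om7, mtx g *ᵥ vecL (rootL 1) = v := by
  set good : ℕ → Prop := fun j => ∃ h : j < 3 ^ 7, ∃ g : Om7, mtx g *ᵥ vecL (rootL 1) = numV.symm ⟨j, h⟩
  have hstep : ∀ m : ℕ, (∀ j, m.testBit j = true → good j) → ∀ j, (stepM m).testBit j = true → good j := by
    intro m hm
    have hinner : ∀ j, good j → ∀ (l : List ℕ) (a : ℕ), (∀ k ∈ l, k < 9) → (∀ i, a.testBit i = true → good i) →
        ∀ i, (l.foldl (fun b k => b ||| 1 <<< ap (orthTabs.getD k (0, 0)).1 j) a).testBit i = true → good i := by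
      intro j hj l
      induction l with
      | nil => intro a _ ha; exact ha
      | cons k l ih =>
        intro a hl ha
        refine ih _ (fun k' hk' => hl k' (List.mem_cons_of_mem k hk')) fun i hi => ?_
        rw [Nat.testBit_or, Bool.or_eq_true] at hi
        rcases hi with hi | hi
        · exact ha i hi
        · rw [Nat.one_shiftLeft, Nat.testBit_two_pow, decide_eq_true_eq] at hi
          subst hi
          obtain ⟨hlt, g, hg⟩ := hj
          have hk : k < 9 := hl k List.mem_cons_self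
          refine ⟨valid_lt (orth_valid ⟨k, hk⟩) hlt, omL k * g, ?_⟩
          rw [mtx_mul_vec, hg]
          apply numV.injective
          rw [Equiv.apply_symm_apply]
          have h := congrArg (fun p : Equiv.Perm (Fin (3 ^ 7)) => p ⟨j, hlt⟩) (orthPerm_omL ⟨k, hk⟩)
          refine Eq.trans h (Fin.ext ?_)
          exact perm_apply (orth_valid ⟨k, hk⟩) _
    have houter : ∀ (l : List ℕ) (a : ℕ), (∀ i, a.testBit i = true → good i) →
        ∀ i, (l.foldl (fun a j => if m.testBit j then
          (List.range 9).foldl (fun b k => b ||| 1 <<< ap (orthTabs.getD k (0, 0)).1 j) a else a) a).testBit i = true →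
          good i := by
      intro l
      induction l with
      | nil => intro a ha; exact ha
      | cons j l ih =>
        intro a ha
        refine ih _ ?_
        dsimp only
        split_ifs with hj
        · exact hinner j (hm j hj) _ a (fun k hk => List.mem_range.1 hk) ha
        · exact ha
    exact houter _ m hm
  have hstart : (numV (vecL (rootL 1)) : ℕ) = startN := by
    rw [numV_val]
    decide +kernel
  have hall : ∀ n j, ((stepM^[n]) (1 <<< startN)).testBit j = true → good j := by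
    intro n
    induction n with
    | zero =>
      intro j hj
      rw [Function.iterate_zero, id, Nat.one_shiftLeft, Nat.testBit_two_pow, decide_eq_true_eq] at hj
      subst hj
      refine ⟨hstart ▸ (numV (vecL (rootL 1))).isLt, 1, ?_⟩
      rw [mtx_one_vec]
      apply numV.injective
      rw [Equiv.apply_symm_apply]
      exact Fin.ext hstart
    | succ n ih =>
      rw [Function.iterate_succ_apply']
      exact hstep _ ih
  have h2 : qN (numV v).val = 2 := by
    have h := qf_num (numV v)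
    rw [Equiv.symm_apply_apply, hv] at h
    have h' := congrArg ZMod.val h
    rw [ZMod.val_natCast, show qN (numV v).val % 3 = qN (numV v).val from Nat.mod_eq_of_lt (Nat.mod_lt _ (by norm_num))] at h'
    exact h'.symm
  have hc := List.all_eq_true.1 mask_cover (numV v).val (List.mem_range.2 (numV v).isLt)
  rw [h2] at hc
  simp only [beq_self_eq_true, Bool.not_true, Bool.false_or] at hc
  obtain ⟨h, g, hg⟩ := hall _ _ hc
  exact ⟨g, by rw [hg]; exact numV.symm_apply_apply v⟩

/-- An invariant set of 351 involutions contains the images of the letters. -/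
theorem letters_mem (E : Set Om7) (hinv : ∀ g : Om7, ∀ e ∈ E, g * e * g⁻¹ ∈ E)
    (hsq : ∀ e ∈ E, e * e = 1 ∧ e ≠ 1) (hcard : E.ncard = 351) : ∀ k : Fin 9, 1 ≤ k.val → omL k.val ∈ E := by
  classical
  haveI : Finite Om7 := Nat.finite_of_card_ne_zero (by rw [card_omega7.1]; norm_num)
  haveI : Fact (Nat.Prime 7) := ⟨by norm_num⟩
  obtain ⟨g, hg⟩ := exists_prime_orderOf_dvd_card' (G := Om7) 7 (by rw [card_omega7.1]; norm_num)
  let σ : Equiv.Perm E :=
    { toFun := fun e => ⟨g * e.1 * g⁻¹, hinv g e.1 e.2⟩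
      invFun := fun e => ⟨g⁻¹ * e.1 * g⁻¹⁻¹, hinv g⁻¹ e.1 e.2⟩
      left_inv := fun e => Subtype.ext (by
        show g⁻¹ * (g * e.1 * g⁻¹) * g⁻¹⁻¹ = e.1
        group)
      right_inv := fun e => Subtype.ext (by
        show g * (g⁻¹ * e.1 * g⁻¹⁻¹) * g⁻¹ = e.1
        group) }
  have hσn : ∀ (n : ℕ) (e : E), ((σ ^ n) e).1 = g ^ n * e.1 * (g ^ n)⁻¹ := fun n => by
    induction n with
    | zero => intro e; simp
    | succ n ih =>
      intro e
      rw [pow_succ, Equiv.Perm.mul_apply, ih]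
      show g ^ n * (g * e.1 * g⁻¹) * (g ^ n)⁻¹ = _
      rw [pow_succ]
      group
  have hσ : σ ^ 7 = 1 := Equiv.ext fun e => Subtype.ext (by
    rw [hσn, ← hg, pow_orderOf_eq_one, one_mul, inv_one, mul_one]
    rfl)
  have hmod := fixed_mod_seven σ hσ
  rw [Nat.card_coe_set_eq, hcard] at hmod
  obtain ⟨⟨e, heE⟩, he⟩ := Set.nonempty_of_ncard_ne_zero (s := {a : E | σ a = a}) fun h => by
    rw [h] at hmod
    exact absurd hmod (by decide)
  have hc : Commute e g := (mul_inv_eq_iff_eq_mul.1 (congrArg Subtype.val he : g * e * g⁻¹ = e)).symm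
  obtain ⟨v, hv, hv2, heq⟩ := involution_form (hsq e heE).1 (hsq e heE).2 hg hc
  intro k hk
  obtain ⟨a, ha⟩ := transitive_two hv2
  have hr : Qf (vecL (rootL k.val)) = 2 := by rw [Qf_coe]; exact root_q k hk
  obtain ⟨b, hb⟩ := transitive_two hr
  have hab : mtx (b * a⁻¹) *ᵥ v = vecL (rootL k.val) := by
    rw [← ha, ← mtx_mul_vec, inv_mul_cancel_right]
    exact hb
  have hmem := hinv (b * a⁻¹) e heE
  have key : b * a⁻¹ * e * (b * a⁻¹)⁻¹ = omL k.val := by
    refine Subtype.ext ?_
    show (b * a⁻¹).1 * e.1 * (b * a⁻¹).1⁻¹ = isoL k.val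
    rw [isoL, dif_pos ⟨k.isLt, hk⟩, heq]
    have hm : ∀ u : Cfsg.isometryGroup (ZMod 3) (⇑Qf), u * minusOne = minusOne * u := fun u =>
      Refl.ext_mulVec Qf fun x => by
        simp only [Refl.mat, Subgroup.coe_mul, Units.val_mul, mat_minusOne]
        simp
    rw [← mul_assoc, hm, mul_assoc minusOne, mul_assoc minusOne]
    congr 1
    rw [Refl.refl_conj]
    exact Refl.refl_congr Qf _ _ (t := 1) (by rw [one_smul]; exact hab)
  rwa [key] at hmem

end Cfsg.Lib.FiTen
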